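import Mathlib

/-!
# Idempotent matrices and a determinant (helper501, for S4577)

* `exists_factor` : `E * E = E` : `E = Q * P`, `P * Q = 1`, `trace E = m`.
* `det_swap` : the determinant of the form `(⟨x, i, j⟩, ⟨y, k, l⟩) ↦ c x` if `x = y`, `i = l`, `j = k`.
-/

set_option autoImplicit false
set_option linter.unusedSectionVars false
set_option linter.unusedVariables false

namespace Cfsg.Agent.H501.Par

/-- **the factorization of an idempotent matrix** -/
theorem exists_factor {K : Type*} [Field K] {n : ℕ} {E : Matrix (Fin n) (Fin n) K} (hE : E * E = E) :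
    ∃ (m : ℕ) (P : Matrix (Fin m) (Fin n) K) (Q : Matrix (Fin n) (Fin m) K), P * Q = 1 ∧ Q * P = E ∧ E.trace = m := by
  classical
  let f : (Fin n → K) →ₗ[K] (Fin n → K) := Matrix.toLin' E
  have hf : ∀ v, f (f v) = f v := by
    intro v
    change Matrix.toLin' E (Matrix.toLin' E v) = Matrix.toLin' E v
    rw [← Matrix.toLin'_mul_apply, hE]
  let W := LinearMap.range f
  let e : W ≃ₗ[K] (Fin (Module.finrank K W) → K) := (Module.finBasis K W).equivFun
  let P : Matrix (Fin (Module.finrank K W)) (Fin n) K := LinearMap.toMatrix' (e.toLinearMap ∘ₗ f.rangeRestrict)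
  let Q : Matrix (Fin n) (Fin (Module.finrank K W)) K := LinearMap.toMatrix' (W.subtype ∘ₗ e.symm.toLinearMap)
  have h1 : P * Q = 1 := by
    change LinearMap.toMatrix' _ * LinearMap.toMatrix' _ = 1
    rw [← LinearMap.toMatrix'_comp, ← LinearMap.toMatrix'_id]
    congr 1
    refine LinearMap.ext fun v => ?_
    change e (f.rangeRestrict ((e.symm v : W) : Fin n → K)) = v
    have h2 : f.rangeRestrict ((e.symm v : W) : Fin n → K) = e.symm v := by
      apply Subtype.ext
      change f ((e.symm v : W) : Fin n → K) = _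
      obtain ⟨w, hw⟩ := (e.symm v).2
      rw [← hw, hf]
    rw [h2, LinearEquiv.apply_symm_apply]
  have h2 : Q * P = E := by
    change LinearMap.toMatrix' _ * LinearMap.toMatrix' _ = E
    rw [← LinearMap.toMatrix'_comp, ← LinearMap.toMatrix'_toLin' E]
    congr 1
    refine LinearMap.ext fun v => ?_
    change ((e.symm (e (f.rangeRestrict v)) : W) : Fin n → K) = f v
    rw [LinearEquiv.symm_apply_apply]
    rfl
  refine ⟨_, P, Q, h1, h2, ?_⟩
  rw [← h2, Matrix.trace_mul_comm, h1, Matrix.trace_one, Fintype.card_fin]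

section det

variable {X : Type*} [Fintype X] [DecidableEq X] (m : X → ℕ)

/-- the index set -/
abbrev Ix := Σ x : X, Fin (m x) × Fin (m x)

/-- the flip -/
def flip : Equiv.Perm (Ix m) where
  toFun a := ⟨a.1, a.2.2, a.2.1⟩
  invFun a := ⟨a.1, a.2.2, a.2.1⟩
  left_inv a := rfl
  right_inv a := rfl

theorem flip_iff (a b : Ix m) : flip m a = b ↔ a.1 = b.1 ∧ (a.2.1 : ℕ) = b.2.2 ∧ (a.2.2 : ℕ) = b.2.1 := by
  obtain ⟨x, i, j⟩ := a
  obtain ⟨y, k, l⟩ := b
  constructor
  · intro h
    have h' : (⟨x, j, i⟩ : Ix m) = ⟨y, k, l⟩ := h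
    cases h'
    exact ⟨rfl, rfl, rfl⟩
  · rintro ⟨h1, h2, h3⟩
    dsimp only at h1 h2 h3
    subst h1
    change (⟨x, j, i⟩ : Ix m) = ⟨x, k, l⟩
    have e2 : i = l := Fin.ext h2
    have e3 : j = k := Fin.ext h3
    rw [e2, e3]

variable {R : Type*} [CommRing R]

/-- **the determinant** -/
theorem det_swap (c : X → R) :
    (Matrix.of fun a b : Ix m => if a.1 = b.1 ∧ (a.2.1 : ℕ) = b.2.2 ∧ (a.2.2 : ℕ) = b.2.1 then c a.1 else 0).det =
      (Equiv.Perm.sign (flip m) : ℤ) * ∏ x, c x ^ (m x ^ 2) := by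
  have h1 : (Matrix.of fun a b : Ix m => if a.1 = b.1 ∧ (a.2.1 : ℕ) = b.2.2 ∧ (a.2.2 : ℕ) = b.2.1 then c a.1 else 0) =
      Matrix.diagonal (fun a : Ix m => c a.1) * (flip m).permMatrix R := by
    ext a b
    rw [Matrix.of_apply, Matrix.diagonal_mul, Equiv.Perm.permMatrix, PEquiv.toMatrix_apply]
    have h2 : b ∈ (flip m).toPEquiv a ↔ flip m a = b := by
      rw [Equiv.toPEquiv_apply, Option.mem_def, Option.some_inj]
    by_cases h3 : flip m a = b
    · rw [if_pos ((flip_iff m a b).1 h3), if_pos (h2.2 h3), mul_one]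
    · rw [if_neg (fun h => h3 ((flip_iff m a b).2 h)), if_neg (fun h => h3 (h2.1 h)), mul_zero]
  rw [h1, Matrix.det_mul, Matrix.det_diagonal, Matrix.det_permutation, mul_comm]
  congr 1
  rw [Fintype.prod_sigma]
  refine Finset.prod_congr rfl fun x _ => ?_
  change ∏ _y : Fin (m x) × Fin (m x), c x = c x ^ m x ^ 2
  rw [Finset.prod_const, Finset.card_univ, Fintype.card_prod, Fintype.card_fin, sq]

/-- the determinant, up to the sign -/
theorem det_swap_or (c : X → R) :
    (Matrix.of fun a b : Ix m => if a.1 = b.1 ∧ (a.2.1 : ℕ) = b.2.2 ∧ (a.2.2 : ℕ) = b.2.1 then c a.1 else 0).det =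
        ∏ x, c x ^ (m x ^ 2) ∨
      (Matrix.of fun a b : Ix m => if a.1 = b.1 ∧ (a.2.1 : ℕ) = b.2.2 ∧ (a.2.2 : ℕ) = b.2.1 then c a.1 else 0).det =
        - ∏ x, c x ^ (m x ^ 2) := by
  rw [det_swap]
  rcases Int.units_eq_one_or (Equiv.Perm.sign (flip m)) with h | h
  · left
    rw [h]
    simp
  · right
    rw [h]
    simp

end det

end Cfsg.Agent.H501.Par
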